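import Groth.Agent.LocPos.K924.JetSec
import Groth.Agent.Pic13.H945.DegAmple
import Groth.Agent.Curves.K320.DegTools

/-!
# Nefness on a blow-up from separation of jets

* `mk_idealMod_pow` : the class of `idealMod (D ^ n)`.
* `dg_nonneg` : an invertible module on a proper integral curve with a nonzero section has degree `≥ 0`.
* `dg_pull_nonneg_of_isAmple` : the pullback of an ample module to a proper integral curve has degree `≥ 0`.
* `jets_ineq` : the inequality obtained from the separation of jets.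
* `pull_idealMod_eq_one` : the pullback of the ideal to a curve disjoint from the divisor is trivial.
* `real_limit` : the limiting argument.
-/

set_option autoImplicit false
universe u

open CategoryTheory CategoryTheory.Limits AlgebraicGeometry Opposite TopologicalSpace

namespace K924.NefJets

open Groth.Agent Groth.Agent.Fdesc.LocGen Groth.Agent.Dix.IdealModCartier
open Groth.Agent.Divis.CartierBasic K924.IdealTens
open Grpsch.PicGrp Etcore.DegZero Divis.EffCartier

variable {X Y C : Scheme.{u}}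

theorem idealMod_one : Nonempty (Coh.structureModule X ≅ ClSub.idealMod (1 : X.IdealSheafData)) :=
  idealMod_principal (X := X) (D := 1) (a := 1) (by
    intro W hW
    rw [map_one]
    refine ⟨one_mem _, ?_⟩
    rw [Ideal.span_singleton_one]
    rfl)

theorem mk_idealMod_eq_one {D : X.IdealSheafData} (hD : BlowUp.IsEffCartierIdeal D) (h : D = 1) :
    mk (ClSub.idealMod D) (isInvertible_idealMod hD) = 1 := by
  subst h
  obtain ⟨e⟩ := idealMod_one (X := X)
  exact mk_congr e.symm

theorem mk_idealMod_mul {D E F : X.IdealSheafData} (hD : BlowUp.IsEffCartierIdeal D)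
    (hE : BlowUp.IsEffCartierIdeal E) (hF : BlowUp.IsEffCartierIdeal F) (h : F = D * E) :
    mk (ClSub.idealMod F) (isInvertible_idealMod hF) =
      mk (ClSub.idealMod D) (isInvertible_idealMod hD) * mk (ClSub.idealMod E) (isInvertible_idealMod hE) := by
  subst h
  obtain ⟨e⟩ := idealMod_mul hD hE
  rw [mk_mul_mk]
  exact mk_congr e.symm

theorem mk_idealMod_pow {D : X.IdealSheafData} (hD : BlowUp.IsEffCartierIdeal D) (n : ℕ) :
    mk (ClSub.idealMod (D ^ n)) (isInvertible_idealMod (isEff_pow hD n)) =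
      mk (ClSub.idealMod D) (isInvertible_idealMod hD) ^ n := by
  induction n with
  | zero =>
    rw [pow_zero (mk (ClSub.idealMod D) (isInvertible_idealMod hD))]
    exact mk_idealMod_eq_one (isEff_pow hD 0) (pow_zero D)
  | succ n ih =>
    rw [pow_succ (mk (ClSub.idealMod D) (isInvertible_idealMod hD)), ← ih]
    exact mk_idealMod_mul (isEff_pow hD n) hD (isEff_pow hD (n + 1)) (pow_succ D n)

section curve

variable (k : Type u) [Field k] [C.Over (Spec (CommRingCat.of k))] [IsIntegral C]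
  [IsProper (C ↘ (Spec (CommRingCat.of k)))] (hdim : topologicalKrullDim C = 1)

include hdim

theorem dg_nonneg {L : C.Modules} (hL : PicF.IsInvertible L) (m : Γ(L, ⊤)) (hm : m ≠ 0) :
    0 ≤ dg k C (mk L hL) := by
  rw [Pic13.H945.DegAmple.dg_eq_deg k C hdim hL]
  apply K320.DegTools.deg_nonneg k hdim hL
  refine ⟨(CurvesB.HZero.equivAdd L).symm m, 0, ?_⟩
  rw [Ne, (CurvesB.HZero.equivAdd L).symm.map_eq_zero_iff]
  exact hm

theorem dg_pull_nonneg (g : C ⟶ X) {L : X.Modules} (hL : PicF.IsInvertible L) (t : Γ(L, ⊤)) (c : C)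
    {W : X.Opens} (hW : g c ∈ W) (h : IsGen (res L (le_top : W ≤ ⊤) t)) :
    0 ≤ dg k C (pull g (mk L hL)) := by
  rw [pull_mk]
  exact dg_nonneg k hdim _ (pullTop g t) (pullTop_ne_zero g t c hW h)

/-- Pullbacks of ample modules have nonnegative degree. -/
theorem dg_pull_nonneg_of_isAmple (g : C ⟶ X) {A : X.Modules} (hA : CohB1.IsAmple A) :
    0 ≤ dg k C (pull g (mk A hA.1)) := by
  obtain ⟨c⟩ : Nonempty C := inferInstance
  obtain ⟨n, s, hs, -⟩ := hA.2.2 (g c)
  obtain ⟨V, hV, hg⟩ := (mem_genLocus_iff s (g c)).mp hs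
  have h1 := dg_pull_nonneg k hdim g (isInvertible_tensorPow hA.1 (n + 1)) (sec s ⊤) c hV
    (by rw [res_sec]; exact hg)
  rw [mk_tensorPow hA.1, map_pow, dg_pow k C hdim] at h1
  by_contra hc
  push Not at hc
  have : ((n + 1 : ℕ) : ℤ) * dg k C (pull g (mk A hA.1)) < 0 :=
    mul_neg_of_pos_of_neg (by positivity) hc
  omega

/-- The inequality from jets. -/
theorem jets_ineq (f : Y ⟶ X) (i : C ⟶ Y) (c : C) (x : X) (hx : IsClosed ({x} : Set X))
    (hfx : f (i c) = x)
    (hE : BlowUp.IsEffCartierIdeal ((W4c2seshadripos.pointIdeal x hx).comap f))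
    {A ω : X.Modules} (hA : PicF.IsInvertible A) (hω : PicF.IsInvertible ω) (s r : ℕ)
    (hj : W4c2seshadripos.SeparatesJets (CohB1.tensorMod (CohB1.tensorPow A r) ω) x hx s) :
    0 ≤ r * dg k C (pull i (pull f (mk A hA))) + dg k C (pull i (pull f (mk ω hω))) +
      s * dg k C (pull i (mk (ClSub.idealMod ((W4c2seshadripos.pointIdeal x hx).comap f))
        (isInvertible_idealMod hE))) := by
  subst hfx
  have hM : PicF.IsInvertible (CohB1.tensorMod (CohB1.tensorPow A r) ω) :=
    isInvertible_tensorMod (isInvertible_tensorPow hA r) hω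
  obtain ⟨t, W, hW, hgen⟩ := JetSec.exists_section f (i c) hx hE hM s hj
  have h1 := dg_pull_nonneg k hdim i (isInvertible_tensorMod (isInvertible_idealMod (isEff_pow hE s))
    (isInvertible_pullback f hM)) t c hW hgen
  rw [← mk_mul_mk (isInvertible_idealMod (isEff_pow hE s)) (isInvertible_pullback f hM),
    mk_idealMod_pow hE s, ← pull_mk f hM,
    ← mk_mul_mk (isInvertible_tensorPow hA r) hω, mk_tensorPow hA r, map_mul,
    map_pow, map_mul, map_pow, map_mul, map_pow, dg_mul k C hdim, dg_mul k C hdim,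
    dg_pow k C hdim, dg_pow k C hdim] at h1
  linarith

end curve

theorem comap_comap_eq_top (f : Y ⟶ X) (i : C ⟶ Y) (x : X) (hx : IsClosed ({x} : Set X))
    (h : ∀ c, f (i c) ≠ x) :
    ((W4c2seshadripos.pointIdeal x hx).comap f).comap i = ⊤ := by
  apply ext_stalkIdeal
  intro c
  have h1 : f (i c) ∉ (W4c2seshadripos.pointIdeal x hx).support := by
    rw [← SetLike.mem_coe, W4c2seshadripos.pointIdeal,
      Scheme.IdealSheafData.coe_support_vanishingIdeal]
    exact h c
  rw [Divis.CartierStalk.stalkIdeal_comap, Divis.CartierStalk.stalkIdeal_comap,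
    (notMem_support_iff_stalkIdeal_eq_top _ _).mp h1, Ideal.map_top, Ideal.map_top, stalkIdeal_top]

theorem pull_idealMod_eq_one (f : Y ⟶ X) (i : C ⟶ Y) (x : X) (hx : IsClosed ({x} : Set X))
    (hE : BlowUp.IsEffCartierIdeal ((W4c2seshadripos.pointIdeal x hx).comap f))
    (h : ∀ c, f (i c) ≠ x) :
    pull i (mk (ClSub.idealMod ((W4c2seshadripos.pointIdeal x hx).comap f))
        (isInvertible_idealMod hE)) = 1 := by
  have h1 := comap_comap_eq_top f i x hx h
  obtain ⟨e⟩ := pullback_idealMod i hE (by rw [h1]; exact isEff_top)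
  rw [h1] at e
  obtain ⟨e'⟩ := idealMod_one (X := C)
  rw [pull_mk, one_def]
  exact mk_congr (e ≪≫ e'.symm)

/-- The limiting argument. -/
theorem real_limit (a w e ε : ℝ) (hε : 0 < ε) (s₀ : ℕ)
    (h : ∀ s : ℕ, s₀ ≤ s → ∀ r : ℕ, (s : ℝ) + 2 < r * ε → 0 ≤ r * a + w + s * e) :
    0 ≤ a + ε * e := by
  have ha : 0 ≤ a := by
    by_contra hc
    push Not at hc
    obtain ⟨r, hr⟩ := exists_nat_gt (max (((s₀ : ℝ) + 2) / ε) ((w + s₀ * e) / (-a)))
    have h1 : ((s₀ : ℝ) + 2) / ε < r := (le_max_left _ _).trans_lt hr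
    have h2 : (w + s₀ * e) / (-a) < r := (le_max_right _ _).trans_lt hr
    rw [div_lt_iff₀ hε] at h1
    rw [div_lt_iff₀ (by linarith)] at h2
    have h3 := h s₀ le_rfl r h1
    linarith
  by_contra hc
  push Not at hc
  set b := -(a + ε * e) with hb
  have hb0 : 0 < b := by linarith
  obtain ⟨s, hs⟩ := exists_nat_gt (max (s₀ : ℝ) (((2 + ε) * a + ε * w) / b))
  have h1 : (s₀ : ℝ) < s := (le_max_left _ _).trans_lt hs
  have h2 : ((2 + ε) * a + ε * w) / b < s := (le_max_right _ _).trans_lt hs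
  rw [div_lt_iff₀ hb0] at h2
  set r := ⌊((s : ℝ) + 2) / ε⌋₊ + 1 with hr
  have hpos : 0 ≤ ((s : ℝ) + 2) / ε := by positivity
  have h3 : ((s : ℝ) + 2) / ε < r := by
    rw [hr]; push_cast; exact Nat.lt_floor_add_one _
  have h4 : (r : ℝ) ≤ ((s : ℝ) + 2) / ε + 1 := by
    rw [hr]; push_cast
    have := Nat.floor_le hpos
    linarith
  have h5 := h s (by exact_mod_cast h1.le) r (by rwa [div_lt_iff₀ hε] at h3)
  have h6 : (r : ℝ) * a ≤ (((s : ℝ) + 2) / ε + 1) * a := mul_le_mul_of_nonneg_right h4 ha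
  have h7 : 0 ≤ (((s : ℝ) + 2) / ε + 1) * a + w + s * e := by linarith
  have h8 : 0 ≤ ε * ((((s : ℝ) + 2) / ε + 1) * a + w + s * e) := mul_nonneg hε.le h7
  have h9 : ε * ((((s : ℝ) + 2) / ε + 1) * a + w + s * e) =
      (s + 2 + ε) * a + ε * w + s * (ε * e) := by
    field_simp
  rw [h9] at h8
  nlinarith

end K924.NefJets
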