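import Groth.Agent.Surf.K455.BlowDim
import Groth.Agent.Surf.K455.CutKer
import Groth.Agent.Surf.K455.ResOne
import Groth.Agent.Surf.K464.DegCurve
import Groth.Prelude.Def_Pic13

/-!
# Degrees of curves on the blow-up of a surface at a point

* `curveDeg_eq` : `deg(M|_Z) = -(I_Z · M)` for an effective Cartier curve `Z` on a proper surface.
* `dot_exc_exc`, `dot_pull_exc`, `dot_pull_pull` : the intersection form of the blow-up of a point.
* `degs` : if `J_C · O_Y = I_Z · E^v`, then `deg(f^*L|_Z) = deg(L|_C)` and `deg(E|_Z) = -v`.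
* `degs_exc` : `deg(f^*L|_E) = 0`, `deg(I_E|_E) = 1`.
-/

set_option autoImplicit false
universe u

open CategoryTheory CategoryTheory.Limits AlgebraicGeometry TopologicalSpace

namespace K924.BlowNum

open Groth.Agent Groth.Agent.Grpsch.PicGrp Groth.Agent.Dix.IdealModCartier Groth.Agent.Divis.EffCartier K464.Base
open Groth.Agent.Dix.PointIdeal

variable (k : Type u) [Field k]

section curve

variable {X Z : Scheme.{u}} [X.Over (Spec (CommRingCat.of k))] [IsProper (X ↘ Spec (CommRingCat.of k))]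

/-- The degree of a line bundle on a curve, as an intersection number. -/
theorem curveDeg_eq (hdim : topologicalKrullDim X ≤ (2 : ℕ)) (i : Z ⟶ X) [IsClosedImmersion i]
    (hZ : topologicalKrullDim Z ≤ (1 : ℕ)) (I : X.IdealSheafData) (hI : i.ker = I)
    (hE : BlowUp.IsEffCartierIdeal I) {M : X.Modules} (hM : PicF.IsInvertible M) :
    Pic13.curveDeg k (i ≫ (X ↘ Spec (CommRingCat.of k))) ((Scheme.Modules.pullback i).obj M) =
      - dot k X (ic I hE) (mk M hM) := by
  let _ : Z.Over (Spec (CommRingCat.of k)) := ⟨i ≫ (X ↘ Spec (CommRingCat.of k))⟩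
  have hp : IsProper (Z ↘ Spec (CommRingCat.of k)) :=
    inferInstanceAs (IsProper (i ≫ (X ↘ Spec (CommRingCat.of k))))
  have hZ2 : topologicalKrullDim Z ≤ (2 : ℕ) := hZ.trans (by exact_mod_cast Nat.le_succ 1)
  have h := K455.CutKer.intNum_ideal k i rfl hdim I hI hM
  rw [intNum_eq_dot k X hdim (isInvertible_idealMod hE) hM, Fga.IntAdd.eulerCharLE_eq k Z 2 hZ2,
    Fga.IntAdd.eulerCharLE_eq k Z 2 hZ2] at h
  change FGA.eulerCharLE k Z _ 1 - FGA.eulerCharLE k Z _ 1 = _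
  rw [Fga.IntAdd.eulerCharLE_eq k Z 1 hZ, Fga.IntAdd.eulerCharLE_eq k Z 1 hZ]
  change _ = - dot k X (mk _ (isInvertible_idealMod hE)) (mk M hM)
  rw [h]
  ring

end curve

section blow

variable [IsAlgClosed k] {X Y : Scheme.{u}} [X.Over (Spec (CommRingCat.of k))] [Y.Over (Spec (CommRingCat.of k))]
  [IsProper (X ↘ Spec (CommRingCat.of k))] (f : Y ⟶ X)
  (hover : f ≫ (X ↘ Spec (CommRingCat.of k)) = Y ↘ Spec (CommRingCat.of k))
  (h2 : topologicalKrullDim X ≤ (2 : ℕ)) (x : X) (hx : IsClosed ({x} : Set X))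
  [IsRegularLocalRing (X.presheaf.stalk x)] (hdx : ringKrullDim (X.presheaf.stalk x) = 2)
  (hbl : BlowUp.IsBlowUp f (pt x hx))

omit [IsAlgClosed k] in
include hover h2 hdx hbl in
theorem facts : IsProper (Y ↘ Spec (CommRingCat.of k)) ∧ topologicalKrullDim Y ≤ (2 : ℕ) := by
  have : IsLocallyNoetherian X := LocallyOfFiniteType.isLocallyNoetherian (X ↘ Spec (CommRingCat.of k))
  have hp := K455.BlowDim.isProper_blowUp f x hx hbl
  refine ⟨?_, K455.BlowDim.dim_blowUp_le f x hx hdx hbl h2⟩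
  rw [← hover]
  infer_instance

include hover h2 hdx in
theorem dots (a b : Pic X) :
    dot k Y (pull f a) (pull f b) = dot k X a b ∧ dot k Y (pull f a) (ic ((pt x hx).comap f) hbl.1) = 0 ∧
      dot k Y (ic ((pt x hx).comap f) hbl.1) (ic ((pt x hx).comap f) hbl.1) = -1 := by
  have : IsLocallyNoetherian X := LocallyOfFiniteType.isLocallyNoetherian (X ↘ Spec (CommRingCat.of k))
  obtain ⟨hpY, hdY⟩ := facts k f hover h2 x hx hdx hbl
  obtain ⟨L, hL, rfl⟩ := exists_mk a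
  obtain ⟨M, hM, rfl⟩ := exists_mk b
  obtain ⟨h₁, h₂, h₃⟩ := K455.BlowDim.main f x hx hdx hbl k hover h2 L M hL hM
  rw [K455.ResOne.finrank_residueField k X hx] at h₃
  have hL' := Fdesc.LocGen.isInvertible_pullback f hL
  have hM' := Fdesc.LocGen.isInvertible_pullback f hM
  have hE := isInvertible_idealMod hbl.1
  rw [intNum_eq_dot k Y hdY hL' hM', intNum_eq_dot k X h2 hL hM] at h₁
  rw [intNum_eq_dot k Y hdY hL' hE] at h₂
  rw [intNum_eq_dot k Y hdY hE hE] at h₃
  rw [pull_mk, pull_mk]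
  exact ⟨h₁, h₂, by rw [← Nat.cast_one]; exact h₃⟩

variable {Z C : Scheme.{u}} {L : X.Modules} (hL : PicF.IsInvertible L)

include hover h2 hdx hbl hL in
/-- Degrees on the exceptional curve. -/
theorem degs_exc (i : Z ⟶ Y) [IsClosedImmersion i] (hZ : topologicalKrullDim Z ≤ (1 : ℕ))
    (hi : i.ker = (pt x hx).comap f) :
    Pic13.curveDeg k (i ≫ (Y ↘ Spec (CommRingCat.of k)))
      ((Scheme.Modules.pullback i).obj ((Scheme.Modules.pullback f).obj L)) = 0 ∧
    Pic13.curveDeg k (i ≫ (Y ↘ Spec (CommRingCat.of k)))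
      ((Scheme.Modules.pullback i).obj (ClSub.idealMod ((pt x hx).comap f))) = 1 := by
  obtain ⟨hpY, hdY⟩ := facts k f hover h2 x hx hdx hbl
  obtain ⟨-, h₂, h₃⟩ := dots k f hover h2 x hx hdx hbl (mk L hL) (mk L hL)
  rw [curveDeg_eq k hdY i hZ _ hi hbl.1 (Fdesc.LocGen.isInvertible_pullback f hL),
    curveDeg_eq k hdY i hZ _ hi hbl.1 (isInvertible_idealMod hbl.1)]
  refine ⟨?_, ?_⟩
  · rw [dot_comm]
    rw [pull_mk] at h₂
    rw [h₂, neg_zero]
  · change - dot k Y _ (ic ((pt x hx).comap f) hbl.1) = 1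
    rw [h₃]
    rfl

include hover h2 hdx hbl hL in
/-- Degrees on a curve `Z` in the blow-up, in terms of its image `C`. -/
theorem degs (i : Z ⟶ Y) [IsClosedImmersion i] (hZ : topologicalKrullDim Z ≤ (1 : ℕ))
    (hiE : BlowUp.IsEffCartierIdeal i.ker) (j : C ⟶ X) [IsClosedImmersion j]
    (hC : topologicalKrullDim C ≤ (1 : ℕ)) (hjE : BlowUp.IsEffCartierIdeal j.ker) (v : ℕ)
    (hv : j.ker.comap f = i.ker * ((pt x hx).comap f) ^ v) :
    Pic13.curveDeg k (i ≫ (Y ↘ Spec (CommRingCat.of k)))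
      ((Scheme.Modules.pullback i).obj ((Scheme.Modules.pullback f).obj L)) =
    Pic13.curveDeg k (j ≫ (X ↘ Spec (CommRingCat.of k))) ((Scheme.Modules.pullback j).obj L) ∧
    Pic13.curveDeg k (i ≫ (Y ↘ Spec (CommRingCat.of k)))
      ((Scheme.Modules.pullback i).obj (ClSub.idealMod ((pt x hx).comap f))) = - (v : ℤ) := by
  obtain ⟨hpY, hdY⟩ := facts k f hover h2 x hx hdx hbl
  obtain ⟨h₁, h₂, h₃⟩ := dots k f hover h2 x hx hdx hbl (ic j.ker hjE) (mk L hL)
  obtain ⟨-, h₄, -⟩ := dots k f hover h2 x hx hdx hbl (mk L hL) (mk L hL)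
  have hE := hbl.1
  have hEv : BlowUp.IsEffCartierIdeal (((pt x hx).comap f) ^ v) := isEff_pow hbl.1 v
  have hmul : BlowUp.IsEffCartierIdeal (i.ker * ((pt x hx).comap f) ^ v) := isEff_mul hiE hEv
  have hcm : BlowUp.IsEffCartierIdeal (j.ker.comap f) := by rw [hv]; exact hmul
  have hp : pull f (ic j.ker hjE) = ic i.ker hiE * (ic ((pt x hx).comap f) hbl.1) ^ v := by
    rw [K464.DegCurve.pull_ic f hjE hcm, ic_congr hcm hmul hv]
    rw [ic_mul hiE hEv, ic_pow hbl.1]
  have key : ∀ c : Pic Y, dot k Y (ic i.ker hiE) c =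
      dot k Y (pull f (ic j.ker hjE)) c - v * dot k Y (ic ((pt x hx).comap f) hbl.1) c := by
    intro c
    rw [hp, dot_mul_left k Y hdY, dot_pow_left k Y hdY]
    ring
  rw [curveDeg_eq k hdY i hZ _ rfl hiE (Fdesc.LocGen.isInvertible_pullback f hL),
    curveDeg_eq k hdY i hZ _ rfl hiE (isInvertible_idealMod hbl.1), curveDeg_eq k h2 j hC _ rfl hjE hL]
  refine ⟨?_, ?_⟩
  · rw [key, ← pull_mk f hL, h₁, dot_comm k Y (ic ((pt x hx).comap f) hbl.1), h₄]
    ring
  · rw [key]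
    change - (dot k Y _ (ic ((pt x hx).comap f) hbl.1) - v * dot k Y _ (ic ((pt x hx).comap f) hbl.1)) = _
    rw [h₂, h₃]
    ring

end blow

end K924.BlowNum
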