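import Groth.Agent.S1684
import Groth.Agent.S1659
import Groth.Agent.Dix.RegTwoDim
import Groth.Agent.Dix.VertGeom
import Groth.Agent.Dix.HasBlow
import Groth.Agent.CycA.IntLocal
import Groth.Agent.BlowUp.K483.RegPoint
import Groth.Agent.Dix.IdealModCartier

/-!
# Ideals of integral curves on regular surfaces and their multiplicities

* `stalkIdeal_ker_generic` : the ideal of an integral closed subscheme at its generic point.
* `isEff_ker` : an integral closed subscheme of codimension one of a regular surface is effective Cartier.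
* `dim_eq_one_iff` : on an integral surface of finite type over a field, dimension one is codimension one.
* `stalk_le_of_comap_le` : if `J · O_Y ≤ (m_x · O_Y) ^ n` on the blow-up `Y` of `x`, then `J_x ≤ m_x ^ n`.
-/

set_option autoImplicit false
universe u

open CategoryTheory CategoryTheory.Limits AlgebraicGeometry TopologicalSpace

namespace K924.CurveIdeal

open Groth.Agent Groth.Agent.Divis.CartierBasic Groth.Agent.Divis.CartierStalk
open Groth.Agent.Dix.ExcPts Groth.Agent.Dix.PointIdeal

variable {X Y Z : Scheme.{u}}

/-- The ideal of an integral closed subscheme at its generic point is the maximal ideal. -/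
theorem stalkIdeal_ker_generic (i : Z ⟶ Y) [IsClosedImmersion i] [IsIntegral Z] :
    stalkIdeal i.ker (i (genericPoint Z)) =
      IsLocalRing.maximalIdeal (Y.presheaf.stalk (i (genericPoint Z))) := by
  rw [← ker_stalkMap]
  have hs : Function.Surjective (i.stalkMap (genericPoint Z)).hom := i.stalkMap_surjective _
  have hmax : (RingHom.ker (i.stalkMap (genericPoint Z)).hom).IsMaximal := by
    let _ : Field (Z.presheaf.stalk (genericPoint Z)) := inferInstanceAs (Field Z.functionField)
    exact RingHom.ker_isMaximal_of_surjective _ hs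
  exact IsLocalRing.eq_maximalIdeal hmax

theorem isEff_ker (hY : IsSurf Y) (i : Z ⟶ Y) [IsClosedImmersion i] [IsIntegral Z]
    (h1 : ringKrullDim (Y.presheaf.stalk (i (genericPoint Z))) = 1) : BlowUp.IsEffCartierIdeal i.ker := by
  have := hY.noeth
  have hint : IsIntegral i.ker.subscheme := by
    have : IsIntegral i.image := IsIntegral.of_isIso i.toImage
    exact this
  refine Groth.Agent.S1684.result Y i.ker ?_ ?_
  · have h2 : i.ker.subschemeι (genericPoint i.ker.subscheme) = i (genericPoint Z) := by
      have h3 : i.toImage ≫ i.imageι = i := i.toImage_imageι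
      have h4 : i.toImage (genericPoint Z) = genericPoint i.image :=
        ((genericPoint_specializes (i.toImage (genericPoint Z))).antisymm (by
          have h5 : (genericPoint i.image) ∈ Set.range i.toImage := by
            have : Function.Surjective i.toImage := i.toImage.homeomorph.surjective
            exact this _
          obtain ⟨z, hz⟩ := h5
          rw [← hz]
          exact (genericPoint_specializes z).map i.toImage.continuous)).eq.symm
      calc i.ker.subschemeι (genericPoint i.ker.subscheme) = i.imageι (genericPoint i.image) := rfl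
        _ = i.imageι (i.toImage (genericPoint Z)) := by rw [h4]
        _ = (i.toImage ≫ i.imageι) (genericPoint Z) := rfl
        _ = i (genericPoint Z) := by rw [h3]
    rw [h2, h1]
  · intro x _
    have h2 := hY.regular x
    have h3 : IsDomain (Y.presheaf.stalk x) := Groth.Agent.CurvesC.RegNormal.isDomain _
    exact ⟨h3, Groth.Agent.Dix.RegTwoDim.ufd (Dix.BlowIrr.ringKrullDim_le_two x (hY.dim x))⟩

/-- On an integral scheme of finite type over a field of dimension two, integral closed subschemes of dimension one
are those of codimension one. -/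
theorem dim_eq_one_iff {K : Type u} [Field K] (p : Y ⟶ Spec (CommRingCat.of K)) [LocallyOfFiniteType p]
    [IsIntegral Y] (hdim : topologicalKrullDim Y = 2) (i : Z ⟶ Y) [IsClosedImmersion i] [IsIntegral Z] :
    topologicalKrullDim Z = 1 ↔ ringKrullDim (Y.presheaf.stalk (i (genericPoint Z))) = 1 := by
  obtain ⟨a, t, n, ha, -, ht, hn, hsum⟩ := CycA.IntLocal.exists_dims p (i (genericPoint Z))
  have h1 : topologicalKrullDim Z = topologicalKrullDim (closure {i (genericPoint Z)} : Set Y) := by
    have h2 : Set.range i = closure {i (genericPoint Z)} := by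
      have h3 : closure {genericPoint Z} = (Set.univ : Set Z) := genericPoint_spec _
      have h4 := i.isClosedEmbedding.isClosedMap.closure_image_eq_of_continuous i.continuous {genericPoint Z}
      rw [Set.image_singleton, h3, Set.image_univ] at h4
      exact h4.symm
    have e : Z ≃ₜ (closure {i (genericPoint Z)} : Set Y) :=
      i.isClosedEmbedding.isEmbedding.toHomeomorph.trans (Homeomorph.setCongr h2)
    exact IsHomeomorph.topologicalKrullDim_eq _ e.isHomeomorph
  rw [hn] at hdim
  have hn2 : n = 2 := by exact_mod_cast hdim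
  rw [h1, ha, ht]
  constructor
  · intro h
    have : t = 1 := by exact_mod_cast h
    have : a = 1 := by omega
    exact_mod_cast this
  · intro h
    have : a = 1 := by exact_mod_cast h
    have : t = 1 := by omega
    exact_mod_cast this

/-- Nakayama: strictly decreasing powers of the maximal ideal. -/
theorem le_of_pow_le {R : Type*} [CommRing R] [IsLocalRing R] [IsNoetherianRing R] [IsDomain R]
    (h0 : IsLocalRing.maximalIdeal R ≠ ⊥) {v n : ℕ}
    (h : IsLocalRing.maximalIdeal R ^ v ≤ IsLocalRing.maximalIdeal R ^ n) : n ≤ v := by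
  by_contra hc
  push Not at hc
  have h1 : IsLocalRing.maximalIdeal R ^ v ≤ IsLocalRing.maximalIdeal R • IsLocalRing.maximalIdeal R ^ v := by
    rw [smul_eq_mul, ← pow_succ']
    exact h.trans (Ideal.pow_le_pow_right hc)
  have h2 := Submodule.eq_bot_of_le_smul_of_le_jacobson_bot _ _
    (IsNoetherian.noetherian (IsLocalRing.maximalIdeal R ^ v)) h1 (IsLocalRing.maximalIdeal_le_jacobson _)
  exact pow_ne_zero v h0 h2

/-- Orders of vanishing can be read off on the blow-up. -/
theorem stalk_le_of_comap_le (x : X) (hx : IsClosed ({x} : Set X)) [IsRegularLocalRing (X.presheaf.stalk x)]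
    (hdim : ringKrullDim (X.presheaf.stalk x) = 2) (f : Y ⟶ X) (hb : BlowUp.IsBlowUp f (pt x hx))
    (J : X.IdealSheafData) (hJ : BlowUp.IsEffCartierIdeal J) (n : ℕ)
    (h : J.comap f ≤ ((pt x hx).comap f) ^ n) :
    stalkIdeal J x ≤ IsLocalRing.maximalIdeal (X.presheaf.stalk x) ^ n := by
  classical
  let A : Type u := X.presheaf.stalk x
  have hreg : IsRegularLocalRing A := ‹IsRegularLocalRing (X.presheaf.stalk x)›
  have hA : ringKrullDim A = 2 := hdim
  obtain ⟨U, d, hxU, hd⟩ := Dix.IdealModCartier.exists_genOn hJ x
  have hd1 := hd U le_rfl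
  rw [Fdesc.LocGen.ores_refl] at hd1
  set a : A := X.presheaf.germ U.1 x hxU d with ha
  have hJx : stalkIdeal J x = Ideal.span {a} := by
    rw [stalkIdeal_eq J U hxU, hd1.2, Ideal.map_span, Set.image_singleton]
  by_contra hcon
  have han : a ∉ IsLocalRing.maximalIdeal A ^ n := by
    intro h'
    apply hcon
    rw [hJx, Ideal.span_singleton_le_iff_mem]
    exact h'
  have hex : ∃ ν, a ∉ IsLocalRing.maximalIdeal A ^ ν := ⟨n, han⟩
  have hν := Nat.find_spec hex
  have hν0 : Nat.find hex ≠ 0 := by
    intro h0
    rw [h0, pow_zero, Ideal.one_eq_top] at hν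
    exact hν trivial
  obtain ⟨μ, hμ⟩ := Nat.exists_eq_succ_of_ne_zero hν0
  have h1 : a ∈ IsLocalRing.maximalIdeal A ^ μ := by
    by_contra h'
    have := Nat.find_min' hex h'
    omega
  have h2 : μ + 1 ≤ n := by
    have := Nat.find_min' hex han
    omega
  rw [hμ] at hν
  obtain ⟨q, hq, hq'⟩ := K483.RegPoint.exists_param hA
  let c := Divis.BlowChart.chartMap (IsLocalRing.maximalIdeal A) q
  have hc1 : (pt x hx).comap (c ≫ X.fromSpecStalk x) =
      (Divis.BlowChart.idl (IsLocalRing.maximalIdeal A)).comap c := by
    rw [Scheme.IdealSheafData.comap_comp, comap_fromSpecStalk_pt]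
    rfl
  have hc2 : J.comap (c ≫ X.fromSpecStalk x) = (Divis.BlowChart.idl (Ideal.span {a})).comap c := by
    rw [Scheme.IdealSheafData.comap_comp, comap_fromSpecStalk, hJx]
    rfl
  obtain ⟨jj, hjj, -⟩ := hb.2 _ (c ≫ X.fromSpecStalk x) (by
    rw [hc1]
    exact Divis.BlowChart.isEffCartier_chartMap _ _ hq)
  have h3 : J.comap f ≤ ((pt x hx).comap f) ^ (μ + 1) := by
    refine h.trans ?_
    intro V
    rw [Scheme.IdealSheafData.ideal_pow, Scheme.IdealSheafData.ideal_pow, Pi.pow_apply, Pi.pow_apply]
    exact Ideal.pow_le_pow_right h2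
  have h4 := Scheme.IdealSheafData.comap_mono jj h3
  simp only at h4
  rw [Divis.IdealComap.comap_pow, ← Scheme.IdealSheafData.comap_comp, ← Scheme.IdealSheafData.comap_comp,
    hjj, hc1, hc2] at h4
  have h5 : (Divis.BlowChart.idl (IsLocalRing.maximalIdeal A)).comap c =
      Divis.BlowChart.idl ((IsLocalRing.maximalIdeal A).map
        (algebraMap A (BlowUp.affineAlgebra A (IsLocalRing.maximalIdeal A) q))) :=
    Ega4dB.BlowUpChart.comap_SpecMap _ _
  have h6 : (Divis.BlowChart.idl (Ideal.span {a})).comap c =
      Divis.BlowChart.idl ((Ideal.span {a}).map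
        (algebraMap A (BlowUp.affineAlgebra A (IsLocalRing.maximalIdeal A) q))) :=
    Ega4dB.BlowUpChart.comap_SpecMap _ _
  rw [h5, h6, K483.RegPoint.idl_pow, Divis.BlowAlg.map_eq_span _ _ hq, Ideal.map_span,
    Set.image_singleton, Ideal.span_singleton_pow] at h4
  have h7 := K483.RegPoint.le_of_idl_le h4 (Ideal.mem_span_singleton_self _)
  obtain ⟨r, hr⟩ := Ideal.mem_span_singleton.1 h7
  exact hν (K483.RegPoint.mem_of_dvd_chart hA hq hq' h1 r hr)

end K924.CurveIdeal
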