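import Groth.Agent.CurvesB.SepLift
import Groth.Agent.Dix.IdealModCartier
import Groth.Agent.Divis.CartierStalk

/-!
# Sections of `I ⊗ M` from sections of `M` with coefficients in the ideal `I`

* `mem_ideal_iff_stalk` : membership in an ideal sheaf over an affine open is stalkwise.
* `exists_lift` : a global section of an invertible `M` whose local coefficients lie in `D`
  comes from a section of `idealMod D ⊗ M`.
* `exists_isGen_lift` : at a point where the coefficient generates the effective Cartier ideal `D`,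
  the section of `idealMod D ⊗ M` is a local generator.
* `pullTop_ne_zero` : a section generating at a point of a subscheme has nonzero pullback.
-/

set_option autoImplicit false
universe u

open CategoryTheory CategoryTheory.Limits AlgebraicGeometry Opposite TopologicalSpace

namespace K924.IdealTens

open Groth.Agent Groth.Agent.Fdesc.LocGen Groth.Agent.Dix.IdealModCartier
open Groth.Agent.Divis.CartierBasic Groth.Agent.CurvesB.SepLift

variable {X : Scheme.{u}}

theorem mem_ideal_iff_stalk (D : X.IdealSheafData) (U : X.affineOpens) (a : Γ(X, U.1)) :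
    a ∈ D.ideal U ↔ ∀ (x : X) (hx : x ∈ U.1), X.presheaf.germ U.1 x hx a ∈ stalkIdeal D x := by
  rw [← Ideal.span_singleton_le_iff_mem, U.2.ideal_le_iff]
  constructor
  · intro h x hx
    have h1 := h x hx
    rw [← stalkIdeal_eq D U hx, Ideal.map_span, Set.image_singleton,
      Ideal.span_singleton_le_iff_mem] at h1
    exact h1
  · intro h x hx
    rw [← stalkIdeal_eq D U hx, Ideal.map_span, Set.image_singleton,
      Ideal.span_singleton_le_iff_mem]
    exact h x hx

theorem germ_ores {U V : X.Opens} (h : V ≤ U) {x : X} (hx : x ∈ V) (a : Γ(X, U)) :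
    X.presheaf.germ V x hx (ores h a) = X.presheaf.germ U x (h hx) a :=
  X.presheaf.germ_res_apply (homOfLE h) x hx a

theorem subschemeι_app_eq_zero_of_stalk (D : X.IdealSheafData) (U : X.Opens) (a : Γ(X, U))
    (ha : ∀ (x : X) (hx : x ∈ U), X.presheaf.germ U x hx a ∈ stalkIdeal D x) :
    D.subschemeι.app U a = 0 := by
  refine Divis.IdealFT.subschemeι_app_eq_zero D U a fun x hx => ?_
  obtain ⟨V, hxV, hV⟩ := exists_affine_mem_le U x hx
  refine ⟨V, hV, hxV, ?_⟩
  rw [mem_ideal_iff_stalk]
  intro y hy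
  have := ha y (hV hy)
  rwa [← germ_ores hV hy] at this

variable (D : X.IdealSheafData) {M : X.Modules}

/-- A global section with coefficients in `D` comes from `idealMod D ⊗ M`. -/
theorem exists_lift (hM : PicF.IsInvertible M) (τ : Γ(M, ⊤))
    (h : ∀ y : X, ∃ (V : X.Opens) (e : Γ(M, V)) (a : Γ(X, V)), y ∈ V ∧
      res M le_top τ = a • e ∧ ∀ (x : X) (hx : x ∈ V), X.presheaf.germ V x hx a ∈ stalkIdeal D x) :
    ∃ t, (mu D M).app ⊤ t = τ := by
  apply exists_mu_of_pr_eq_zero D hM
  refine Ega2.Tens.eq_of_locally_eq _ _ _ fun x hx => ?_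
  obtain ⟨V, e, a, hxV, h1, h2⟩ := h x
  refine ⟨V, homOfLE le_top, hxV, ?_⟩
  change res _ le_top ((pr D M).app ⊤ τ) = res _ le_top 0
  rw [← app_res, map_zero, h1]
  exact pr_eq_zero_of_coeff D e a (subschemeι_app_eq_zero_of_stalk D V a h2)

theorem germ_mem_nonZeroDivisors {U : X.Opens} (hU : IsAffineOpen U) {y : X} (hy : y ∈ U)
    {f : Γ(X, U)} (hf : f ∈ nonZeroDivisors Γ(X, U)) :
    X.presheaf.germ U y hy f ∈ nonZeroDivisors (X.presheaf.stalk y) := by
  let := X.presheaf.algebra_section_stalk (⟨y, hy⟩ : U)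
  have := hU.isLocalization_stalk ⟨y, hy⟩
  exact IsLocalization.map_nonZeroDivisors_le (hU.primeIdealOf ⟨y, hy⟩).asIdeal.primeCompl
      (X.presheaf.stalk y) ⟨f, hf, rfl⟩

/-- If the coefficient generates the effective Cartier ideal at `y`, the section of
`idealMod D ⊗ M` generates near `y`. -/
theorem exists_isGen_lift (hD : BlowUp.IsEffCartierIdeal D) 
    (t : Γ(CohB1.tensorMod (ClSub.idealMod D) M, ⊤)) {y : X} {V : X.Opens} (hy : y ∈ V)
    {e : Γ(M, V)} (he : IsGen e) {a : Γ(X, V)} (ha : res M le_top ((mu D M).app ⊤ t) = a • e)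
    (hgen : stalkIdeal D y ≤ Ideal.span {X.presheaf.germ V y hy a}) :
    ∃ (W : X.Opens), y ∈ W ∧ IsGen (res _ (le_top : W ≤ ⊤) t) := by
  obtain ⟨U, d, hyU, hd⟩ := exists_genOn hD y
  obtain ⟨T, hyT, hT⟩ := exists_affine_mem_le (U.1 ⊓ V) y ⟨hyU, hy⟩
  have hTU : T.1 ≤ U.1 := hT.trans inf_le_left
  have hTV : T.1 ≤ V := hT.trans inf_le_right
  have hd' := hd.res hTU
  obtain ⟨s, hs⟩ := exists_val_eq D T (a := ores hTU d) (by
    rw [(hd T hTU).2]; exact Ideal.mem_span_singleton_self _)
  have gs : IsGen s := isGen_of_genOn (hs.symm ▸ hd')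
  have ge : IsGen (res M hTV e) := he.res hTV
  have gt : IsGen (tmul s (res M hTV e)) := gs.tmul ge
  obtain ⟨b, hb⟩ := gt.exists_eq (res _ (le_top : T.1 ≤ ⊤) t)
  -- the coefficients
  have h1 : ores hTV a = b * ores hTU d := by
    apply ge.ext
    have e1 : res M hTV (res M le_top ((mu D M).app ⊤ t)) = ores hTV a • res M hTV e := by
      rw [ha, res_smul]
    have e2 : (mu D M).app T.1 (res _ (le_top : T.1 ≤ ⊤) t) = 
        b • (ores hTU d • res M hTV e) := by
      rw [hb, Scheme.Modules.Hom.app_smul]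
      congr 1
      have := mu_tmul D M s (res M hTV e)
      rw [show inc D T.1 s = ores hTU d from hs] at this
      exact this
    rw [← e1, mul_smul, ← e2, app_res, res_res]
  have h2 : X.presheaf.germ V y hy a = X.presheaf.germ T.1 y hyT b *
      X.presheaf.germ T.1 y hyT (ores hTU d) := by
    rw [← map_mul, ← h1, germ_ores]
  have h3 : X.presheaf.germ T.1 y hyT (ores hTU d) ∈ stalkIdeal D y := by
    rw [stalkIdeal_eq D T hyT]
    refine Ideal.mem_map_of_mem _ ?_
    rw [(hd T hTU).2]; exact Ideal.mem_span_singleton_self _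
  obtain ⟨w, hw⟩ := Ideal.mem_span_singleton'.mp (hgen h3)
  have h4 := germ_mem_nonZeroDivisors T.2 hyT (hd T hTU).1
  have h5 : IsUnit (X.presheaf.germ T.1 y hyT b) := by
    have e1 : (w * X.presheaf.germ T.1 y hyT b) * X.presheaf.germ T.1 y hyT (ores hTU d) =
        1 * X.presheaf.germ T.1 y hyT (ores hTU d) := by
      rw [mul_assoc, ← h2, hw, one_mul]
    have e2 := (mul_cancel_right_mem_nonZeroDivisors h4).1 e1
    exact IsUnit.of_mul_eq_one_right w e2
  refine ⟨X.basicOpen b, (X.mem_basicOpen b y hyT).mpr h5, ?_⟩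
  have h6 : X.basicOpen b ≤ T.1 := X.basicOpen_le b
  have h7 : res _ (le_top : X.basicOpen b ≤ ⊤) t = ores h6 b • res _ h6 (tmul s (res M hTV e)) := by
    rw [← res_smul, ← hb, res_res]
  rw [h7]
  exact (gt.res h6).unit_smul (X.toRingedSpace.isUnit_res_basicOpen b)

/-- A section generating near a point of the image has nonzero pullback. -/
theorem pullTop_ne_zero {C : Scheme.{u}} (i : C ⟶ X) {L : X.Modules} (t : Γ(L, ⊤)) (c : C)
    {W : X.Opens} (hW : i c ∈ W) (h : IsGen (res L (le_top : W ≤ ⊤) t)) : pullTop i t ≠ 0 := by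
  intro h0
  have h1 : res ((Scheme.Modules.pullback i).obj L) (i.preimage_mono (le_top : W ≤ ⊤)) (pullSec i t) =
      pullSec i (res L le_top t) := res_pullSec i _ t
  have h2 := h.pullSec i
  rw [← h1, show pullSec i t = 0 from h0, map_zero] at h2
  have h3 : (1 : Γ(C, i ⁻¹ᵁ W)) = 0 := h2.ext (by rw [smul_zero, smul_zero])
  have h4 : (1 : C.presheaf.stalk c) = 0 := by
    rw [← map_one (C.presheaf.germ (i ⁻¹ᵁ W) c hW).hom, ← map_zero (C.presheaf.germ (i ⁻¹ᵁ W) c hW).hom, h3]
  exact one_ne_zero h4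

end K924.IdealTens
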