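import Groth.Agent.LocPos.K924.IdealTens
import Groth.Agent.W4c2seshadripos.K850.JetStalk

/-!
# Jets and sections on the blow-up

Let `f : Y ⟶ X` be a morphism for which the inverse image `I` of the maximal ideal of a closed point
`x` is effective Cartier, `M` an invertible module on `X` separating `s`-jets at `x`.  For every `y`
over `x` there is a section of `I^s ⊗ f^* M` generating at `y`.
-/

set_option autoImplicit false
universe u

open CategoryTheory CategoryTheory.Limits AlgebraicGeometry Opposite TopologicalSpace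

namespace K924.JetSec

open Groth.Agent Groth.Agent.Fdesc.LocGen Groth.Agent.Dix.IdealModCartier
open Groth.Agent.Divis.CartierBasic Groth.Agent.CurvesB.SepLift K924.IdealTens

/-- An element of the ideal generating its (principal, regular) extension to a local ring. -/
theorem exists_generator {R S : Type*} [CommRing R] [CommRing S] [IsLocalRing S] (φ : R →+* S)
    (J : Ideal R) (d : S) (hd : d ∈ nonZeroDivisors S) (h : J.map φ = Ideal.span {d}) :
    ∃ u ∈ J, J.map φ = Ideal.span {φ u} := by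
  by_contra hc
  push Not at hc
  have h1 : J.map φ ≤ IsLocalRing.maximalIdeal S * Ideal.span {d} := by
    rw [Ideal.map_le_iff_le_comap]
    intro u hu
    have h2 : φ u ∈ Ideal.span {d} := h ▸ Ideal.mem_map_of_mem φ hu
    obtain ⟨c, hc'⟩ := Ideal.mem_span_singleton'.mp h2
    have h3 : c ∈ IsLocalRing.maximalIdeal S := by
      rw [IsLocalRing.mem_maximalIdeal, mem_nonunits_iff]
      intro hu'
      apply hc u hu
      rw [h, ← hc']
      exact (Ideal.span_singleton_mul_left_unit hu' d).symm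
    rw [Ideal.mem_comap, ← hc']
    exact Ideal.mul_mem_mul h3 (Ideal.mem_span_singleton_self d)
  have h2 : d ∈ IsLocalRing.maximalIdeal S * Ideal.span {d} :=
    h1 (h ▸ Ideal.mem_span_singleton_self d)
  obtain ⟨m, hm, hmd⟩ := Ideal.mem_mul_span_singleton.mp h2
  have h3 : m = 1 := (mul_cancel_right_mem_nonZeroDivisors hd).1 (by rw [hmd, one_mul])
  rw [h3, IsLocalRing.mem_maximalIdeal] at hm
  exact hm isUnit_one

variable {X Y : Scheme.{u}}

theorem smul_germ_injective {M : X.Modules} {U : X.Opens} {e : Γ(M, U)} (he : IsGen e) {x : X}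
    (hx : x ∈ U) {a b : X.presheaf.stalk x}
    (h : a • Ega1.ModGerm.germ M U x hx e = b • Ega1.ModGerm.germ M U x hx e) : a = b := by
  obtain ⟨V, hVU, hxV, a', rfl⟩ := TopCat.Presheaf.exists_le_germ_eq X.presheaf a hx
  obtain ⟨W, hWV, hxW, b', rfl⟩ := TopCat.Presheaf.exists_le_germ_eq X.presheaf b hxV
  have hWU : W ≤ U := hWV.trans hVU
  have h1 : Ega1.ModGerm.germ M W x hxW (ores hWV a' • res M hWU e) =
      Ega1.ModGerm.germ M W x hxW (b' • res M hWU e) := by
    rw [Ega1.ModGerm.germ_smul, Ega1.ModGerm.germ_smul, germ_ores hWV hxW]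
    have e1 : Ega1.ModGerm.germ M W x hxW (res M hWU e) = Ega1.ModGerm.germ M U x hx e :=
      Ega1.ModGerm.germ_res M hWU hxW e
    rw [e1]
    exact h
  obtain ⟨T, hxT, i, j, h2⟩ := Ega1.ModGerm.germ_eq M hxW hxW _ _ h1
  have h3 : ores i (ores hWV a') = ores i b' := by
    apply (he.res (i.trans hWU)).ext
    have e1 : res M i (ores hWV a' • res M hWU e) = res M i (b' • res M hWU e) := h2
    rw [res_smul, res_smul, res_res] at e1
    exact e1
  have h4 := congrArg (X.presheaf.germ T x hxT).hom h3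
  have e1 : X.presheaf.germ T x hxT (ores i (ores hWV a')) = X.presheaf.germ V x hxV a' := by
    rw [germ_ores i hxT, germ_ores hWV hxW]
  have e2 : X.presheaf.germ T x hxT (ores i b') = X.presheaf.germ W x hxW b' := germ_ores i hxT b'
  exact (e1.symm.trans h4).trans e2

theorem exists_smul_germ {M : X.Modules} {U : X.Opens} {e : Γ(M, U)} (he : IsGen e) {x : X}
    (hx : x ∈ U) (t : M.presheaf.stalk x) :
    ∃ a : X.presheaf.stalk x, t = a • Ega1.ModGerm.germ M U x hx e := by
  obtain ⟨V, hVU, hxV, t', rfl⟩ := Ega1.ModGerm.exists_germ M t hx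
  obtain ⟨a, ha⟩ := (he.res hVU).exists_eq t'
  refine ⟨X.presheaf.germ V x hxV a, ?_⟩
  rw [ha, Ega1.ModGerm.germ_smul]
  congr 1
  exact Ega1.ModGerm.germ_res M hVU hxV e

/-- The jets condition in terms of a local generator. -/
theorem exists_coeff {M : X.Modules} {x : X} {U : X.Opens} (hxU : x ∈ U) {e : Γ(M, U)} (he : IsGen e)
    (J : Ideal (X.presheaf.stalk x)) (v : X.presheaf.stalk x)
    (σ : Γ(M, ⊤)) (h : v • Ega1.ModGerm.germ M U x hxU e - Ega1.ModGerm.germ M ⊤ x trivial σ ∈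
      J • (⊤ : Submodule (X.presheaf.stalk x) (M.presheaf.stalk x))) :
    ∃ a : Γ(X, U), res M le_top σ = a • e ∧ v - X.presheaf.germ U x hxU a ∈ J := by
  obtain ⟨a, ha⟩ := he.exists_eq (res M le_top σ)
  refine ⟨a, ha, ?_⟩
  have h1 : Ega1.ModGerm.germ M ⊤ x trivial σ =
      X.presheaf.germ U x hxU a • Ega1.ModGerm.germ M U x hxU e := by
    rw [← Ega1.ModGerm.germ_smul, ← ha]
    exact (Ega1.ModGerm.germ_res M le_top hxU σ).symm
  rw [h1, ← sub_smul] at h
  have h2 : ∀ t ∈ J • (⊤ : Submodule (X.presheaf.stalk x) (M.presheaf.stalk x)),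
      ∃ c ∈ J, t = c • Ega1.ModGerm.germ M U x hxU e := by
    intro t ht
    refine Submodule.smul_induction_on ht (fun r hr n _ => ?_) fun p q hp hq => ?_
    · obtain ⟨b, hb⟩ := exists_smul_germ he hxU n
      exact ⟨r * b, Ideal.mul_mem_right _ _ hr, by rw [hb, mul_smul]⟩
    · obtain ⟨c, hc, rfl⟩ := hp
      obtain ⟨d, hd, rfl⟩ := hq
      exact ⟨c + d, J.add_mem hc hd, by rw [add_smul]⟩
  obtain ⟨c, hc, hc'⟩ := h2 _ h
  rw [smul_germ_injective he hxU hc']
  exact hc

/-- Powers of the inverse image ideal, on stalks. -/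
theorem stalkIdeal_comap_pow (f : Y ⟶ X) (I : X.IdealSheafData) (s : ℕ) (y : Y) :
    stalkIdeal ((I.comap f) ^ s) y = (stalkIdeal (I ^ s) (f y)).map (f.stalkMap y).hom := by
  rw [stalkIdeal_pow, Divis.CartierStalk.stalkIdeal_comap, stalkIdeal_pow, Ideal.map_pow]

/-- **Main construction.** -/
theorem exists_section (f : Y ⟶ X) (y : Y) (hx : IsClosed ({f y} : Set X))
    (hE : BlowUp.IsEffCartierIdeal ((W4c2seshadripos.pointIdeal (f y) hx).comap f))
    {M : X.Modules} (hM : PicF.IsInvertible M) (s : ℕ)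
    (hj : W4c2seshadripos.SeparatesJets M (f y) hx s) :
    ∃ (t : Γ(CohB1.tensorMod (ClSub.idealMod (((W4c2seshadripos.pointIdeal (f y) hx).comap f) ^ s))
      ((Scheme.Modules.pullback f).obj M), ⊤)) (W : Y.Opens), y ∈ W ∧
        IsGen (res _ (le_top : W ≤ ⊤) t) := by
  set I := W4c2seshadripos.pointIdeal (f y) hx with hI
  have hIs : stalkIdeal I (f y) = IsLocalRing.maximalIdeal (X.presheaf.stalk (f y)) :=
    K850.JetStalk.stalkIdeal_pointIdeal (f y) hx
  -- the generator of the exceptional ideal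
  obtain ⟨U₀, d, hyU₀, hd⟩ := exists_genOn hE y
  have hd1 := hd U₀ le_rfl
  rw [ores_refl] at hd1
  have hE1 : stalkIdeal (I.comap f) y = Ideal.span {Y.presheaf.germ U₀.1 y hyU₀ d} := by
    rw [stalkIdeal_eq _ U₀ hyU₀, hd1.2, Ideal.map_span, Set.image_singleton]
  rw [Divis.CartierStalk.stalkIdeal_comap] at hE1
  obtain ⟨u, hu, hu'⟩ := exists_generator (f.stalkMap y).hom _ _
    (germ_mem_nonZeroDivisors U₀.2 hyU₀ hd1.1) hE1
  rw [hIs] at hu
  -- the section
  obtain ⟨U, e, hxU, he⟩ := (isInvertible_iff M).mp hM (f y)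
  obtain ⟨σ, hσ⟩ := (K850.JetStalk.separatesJets_iff M (f y) hx s).mp hj
    (u ^ s • Ega1.ModGerm.germ M U (f y) hxU e)
  obtain ⟨a, ha, hau⟩ := exists_coeff hxU he _ (u ^ s) σ hσ
  -- `a` lies in `I ^ s`
  have hmem : ∀ (x' : X) (hx' : x' ∈ U), X.presheaf.germ U x' hx' a ∈ stalkIdeal (I ^ s) x' := by
    intro x' hx'
    by_cases hxx : x' = f y
    · subst hxx
      rw [stalkIdeal_pow, hIs]
      have h1 : X.presheaf.germ U (f y) hx' a =
          u ^ s - (u ^ s - X.presheaf.germ U (f y) hx' a) := by ring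
      rw [h1]
      exact Ideal.sub_mem _ (Ideal.pow_mem_pow hu s)
        (Ideal.pow_le_pow_right (Nat.le_succ s) hau)
    · have h1 : x' ∉ I.support := by
        rw [← SetLike.mem_coe, hI, W4c2seshadripos.pointIdeal,
          Scheme.IdealSheafData.coe_support_vanishingIdeal]
        exact hxx
      rw [stalkIdeal_pow, (notMem_support_iff_stalkIdeal_eq_top I x').mp h1]
      rw [Ideal.top_pow]
      trivial
  have hmem' : ∀ (y' : Y) (hy' : y' ∈ f ⁻¹ᵁ U),
      Y.presheaf.germ (f ⁻¹ᵁ U) y' hy' (f.app U a) ∈ stalkIdeal ((I.comap f) ^ s) y' := by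
    intro y' hy'
    rw [stalkIdeal_comap_pow, ← Scheme.Hom.germ_stalkMap_apply f U y' hy']
    exact Ideal.mem_map_of_mem _ (hmem _ hy')
  -- off `x` everything is in the ideal
  have hout : ∀ y' : Y, f y' ≠ f y → stalkIdeal ((I.comap f) ^ s) y' = ⊤ := by
    intro y' hy'
    have h1 : f y' ∉ I.support := by
      rw [← SetLike.mem_coe, hI, W4c2seshadripos.pointIdeal,
        Scheme.IdealSheafData.coe_support_vanishingIdeal]
      exact hy'
    rw [stalkIdeal_comap_pow, stalkIdeal_pow, (notMem_support_iff_stalkIdeal_eq_top I _).mp h1,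
      Ideal.top_pow, Ideal.map_top]
  have hinv : PicF.IsInvertible ((Scheme.Modules.pullback f).obj M) :=
    isInvertible_pullback f hM
  have hpull : res ((Scheme.Modules.pullback f).obj M) (le_top : f ⁻¹ᵁ U ≤ ⊤) (pullTop f σ) =
      (f.app U a : Γ(Y, f ⁻¹ᵁ U)) • pullSec f e := by
    have h1 : res ((Scheme.Modules.pullback f).obj M) (f.preimage_mono (le_top : U ≤ ⊤)) (pullSec f σ) =
      pullSec f (res M le_top σ) := res_pullSec f _ σ
    rw [ha, pullSec_smul] at h1
    exact h1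
  obtain ⟨t, ht⟩ := exists_lift ((I.comap f) ^ s) hinv (pullTop f σ) (by
    intro y'
    by_cases hy' : f y' = f y
    · have hy'U : y' ∈ f ⁻¹ᵁ U := by
        change f y' ∈ U
        rw [hy']; exact hxU
      exact ⟨f ⁻¹ᵁ U, pullSec f e, f.app U a, hy'U, hpull, hmem'⟩
    · let V : X.Opens := ⟨({f y} : Set X)ᶜ, hx.isOpen_compl⟩
      obtain ⟨U', e', hyU', he'⟩ := (isInvertible_iff _).mp hinv y'
      have hle : U' ⊓ f ⁻¹ᵁ V ≤ U' := inf_le_left
      obtain ⟨a', ha'⟩ := (he'.res hle).exists_eq (res _ le_top (pullTop f σ))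
      refine ⟨U' ⊓ f ⁻¹ᵁ V, res _ hle e', a', ⟨hyU', hy'⟩, ha', ?_⟩
      intro z hz
      rw [hout z hz.2]
      trivial)
  have hgen : stalkIdeal ((I.comap f) ^ s) y ≤
      Ideal.span {Y.presheaf.germ (f ⁻¹ᵁ U) y hxU (f.app U a)} := by
    have h1 : Y.presheaf.germ (f ⁻¹ᵁ U) y hxU (f.app U a) =
        (f.stalkMap y).hom (X.presheaf.germ U (f y) hxU a) :=
      (Scheme.Hom.germ_stalkMap_apply f U y hxU a).symm
    rw [h1, stalkIdeal_comap_pow, stalkIdeal_pow, Ideal.map_pow, hu', Ideal.span_singleton_pow]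
    set v := u ^ s - X.presheaf.germ U (f y) hxU a with hv
    have h2 : (f.stalkMap y).hom v ∈ Ideal.span {(f.stalkMap y).hom u ^ (s + 1)} := by
      rw [← Ideal.span_singleton_pow, ← hu', ← Ideal.map_pow, hIs]
      exact Ideal.mem_map_of_mem _ hau
    obtain ⟨w, hw⟩ := Ideal.mem_span_singleton'.mp h2
    have h3 : (f.stalkMap y).hom (X.presheaf.germ U (f y) hxU a) =
        (1 - w * (f.stalkMap y).hom u) * (f.stalkMap y).hom u ^ s := by
      have : X.presheaf.germ U (f y) hxU a = u ^ s - v := by rw [hv]; ring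
      rw [this, map_sub, map_pow, ← hw]
      ring
    have h4 : IsUnit (1 - w * (f.stalkMap y).hom u) := by
      apply IsLocalRing.isUnit_one_sub_self_of_mem_nonunits
      rw [← IsLocalRing.mem_maximalIdeal]
      apply Ideal.mul_mem_left
      rw [IsLocalRing.mem_maximalIdeal, mem_nonunits_iff]
      intro h5
      exact (IsLocalRing.mem_maximalIdeal _).mp hu (isUnit_of_map_unit (f.stalkMap y).hom u h5)
    rw [h3, Ideal.span_singleton_mul_left_unit h4]
  obtain ⟨W, hyW, hW⟩ := exists_isGen_lift ((I.comap f) ^ s)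
    (Divis.EffCartier.isEff_pow hE s) t (show y ∈ f ⁻¹ᵁ U from hxU) (he.pullSec f)
    (by rw [ht]; exact hpull) hgen
  exact ⟨t, W, hyW, hW⟩

end K924.JetSec
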