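import Groth.Agent.LocPos.K924.TotalTr
import Groth.Agent.LocPos.K924.BlowNum
import Groth.Agent.CycA.ClosurePt

/-!
# Curves on the blow-up of a point of a smooth projective surface

* `curve_cases` : an integral curve on the blow-up is the exceptional curve or the strict transform of a curve.
* `exists_strict` : every integral curve on the surface has a strict transform.
Both come with the degrees of `f^*L` and of the exceptional ideal.
-/

set_option autoImplicit false
universe u

open CategoryTheory CategoryTheory.Limits AlgebraicGeometry TopologicalSpace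

namespace K924.SeshNef

open Groth.Agent Groth.Agent.Divis.CartierBasic Groth.Agent.Divis.CartierStalk
open Groth.Agent.Dix.ExcPts Groth.Agent.Dix.PointIdeal K924.CurveIdeal K924.TotalTr

variable (k : Type u) [Field k] [IsAlgClosed k] {X Y : Scheme.{u}} [X.Over (Spec (CommRingCat.of k))]
  [Y.Over (Spec (CommRingCat.of k))] [IsProper (X ↘ Spec (CommRingCat.of k))]
  [Smooth (X ↘ Spec (CommRingCat.of k))] [IsIntegral X]

omit [IsAlgClosed k] in
include k in
theorem isSurf (hdim : topologicalKrullDim X = 2) : IsSurf X := by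
  have h2 : IsLocallyNoetherian X := LocallyOfFiniteType.isLocallyNoetherian (X ↘ (Spec (CommRingCat.of k)))
  have h3 : CompactSpace X := QuasiCompact.compactSpace_of_compactSpace (X ↘ (Spec (CommRingCat.of k)))
  refine ⟨inferInstance, { }, fun x => Groth.Agent.S1535.result k X x, fun x => ?_⟩
  have h1 : (Order.coheight x : WithBot ℕ∞) ≤ Order.krullDim X := Order.coheight_le_krullDim x
  rw [← Groth.Agent.CurvesB.DimPts.krullDim_eq, hdim] at h1
  exact (WithBot.coe_le_coe (a := Order.coheight x) (b := 2)).mp h1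

omit [IsAlgClosed k] [Smooth (X ↘ Spec (CommRingCat.of k))] in
include k in
theorem ringKrullDim_stalk_closed (hdim : topologicalKrullDim X = 2) (x : X) (hx : IsClosed ({x} : Set X)) :
    ringKrullDim (X.presheaf.stalk x) = 2 := by
  obtain ⟨a, t, n, h1, -, h3, h4, h5⟩ := CycA.IntLocal.exists_dims (X ↘ (Spec (CommRingCat.of k))) x
  rw [hx.closure_eq] at h3
  have h6 : topologicalKrullDim ({x} : Set X) ≤ 0 := topologicalKrullDim_zero_of_discreteTopology _
  have ht : t = 0 := by
    rw [h3] at h6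
    have : t ≤ 0 := by exact_mod_cast h6
    omega
  rw [hdim] at h4
  have hn : n = 2 := by exact_mod_cast h4.symm
  have ha : a = 2 := by omega
  rw [h1, ha]
  rfl

theorem one_ne_two : ((1 : ℕ∞) : WithBot ℕ∞) ≠ (2 : ℕ∞) := by
  intro h
  have h2 := WithBot.coe_injective h
  exact absurd h2 (by decide)

section main

variable (hdim : topologicalKrullDim X = 2) (f : Y ⟶ X)
  (hover : f ≫ (X ↘ Spec (CommRingCat.of k)) = Y ↘ Spec (CommRingCat.of k)) (x : X) (hx : IsClosed ({x} : Set X))
  (hbl : BlowUp.IsBlowUp f (pt x hx)) {L : X.Modules} (hL : PicF.IsInvertible L)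

include hdim hover hbl hL in
/-- An integral curve on the blow-up is the exceptional curve or the strict transform of a curve. -/
theorem curve_cases (Z : Scheme.{u}) (i : Z ⟶ Y) [IsClosedImmersion i] [IsIntegral Z]
    (hZ : topologicalKrullDim Z = 1) :
    (Pic13.curveDeg k (i ≫ (Y ↘ Spec (CommRingCat.of k)))
        ((Scheme.Modules.pullback i).obj ((Scheme.Modules.pullback f).obj L)) = 0 ∧
      Pic13.curveDeg k (i ≫ (Y ↘ Spec (CommRingCat.of k)))
        ((Scheme.Modules.pullback i).obj (ClSub.idealMod ((pt x hx).comap f))) = 1) ∨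
    ∃ (C : Scheme.{u}) (j : C ⟶ X) (_ : IsClosedImmersion j) (_ : IsIntegral C) (v : ℕ),
      topologicalKrullDim C = 1 ∧
      Pic13.curveDeg k (i ≫ (Y ↘ Spec (CommRingCat.of k)))
        ((Scheme.Modules.pullback i).obj ((Scheme.Modules.pullback f).obj L)) =
      Pic13.curveDeg k (j ≫ (X ↘ Spec (CommRingCat.of k))) ((Scheme.Modules.pullback j).obj L) ∧
      Pic13.curveDeg k (i ≫ (Y ↘ Spec (CommRingCat.of k)))
        ((Scheme.Modules.pullback i).obj (ClSub.idealMod ((pt x hx).comap f))) = - (v : ℤ) ∧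
      ∀ n : ℕ, stalkIdeal j.ker x ≤ IsLocalRing.maximalIdeal (X.presheaf.stalk x) ^ n ↔ n ≤ v := by
  have hX : IsSurf X := isSurf k hdim
  have hregx := hX.regular x
  have hdx := ringKrullDim_stalk_closed k hdim x hx
  obtain ⟨hYi, hY, hbir, hiso, hz2⟩ := Dix.HasBlow.isSurf_blowUp hX x hx hdx f hbl
  have hdY := Dix.HasBlow.topologicalKrullDim_eq_two hY.dim hz2
  obtain ⟨hpY, -⟩ := BlowNum.facts k f hover hdim.le x hx hdx hbl
  have h1y := (dim_eq_one_iff (Y ↘ Spec (CommRingCat.of k)) hdY i).mp hZ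
  by_cases hyx : f (i (genericPoint Z)) = x
  · left
    have hrange : Set.range (i ≫ f) = {x} := by
      apply Set.eq_singleton_iff_unique_mem.mpr
      refine ⟨⟨genericPoint Z, hyx⟩, ?_⟩
      rintro _ ⟨w, rfl⟩
      have h1 : f (i (genericPoint Z)) ⤳ (i ≫ f) w :=
        ((genericPoint_specializes w).map i.continuous).map f.continuous
      rw [hyx, specializes_iff_mem_closure, hx.closure_eq] at h1
      exact h1
    have hker := Models.H69.Contr.ker_eq (b := f) (y := x) (hy := hx) i hbl hregx hdx hZ.ge hrange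
    exact BlowNum.degs_exc k f hover hdim.le x hx hdx hbl hL i hZ.le hker
  · right
    obtain ⟨C, j, hj, hC, hgen, -⟩ := CycA.ClosurePt.exists_closure_subscheme (f (i (genericPoint Z)))
    have hisoy : IsIso (f.stalkMap (i (genericPoint Z))) := hiso _ hyx
    have h1 : ringKrullDim (X.presheaf.stalk (j (genericPoint C))) = 1 := by
      rw [hgen, ← h1y]
      exact ringKrullDim_eq_of_ringEquiv (asIso (f.stalkMap (i (genericPoint Z)))).commRingCatIsoToRingEquiv
    have hC1 := (dim_eq_one_iff (X ↘ Spec (CommRingCat.of k)) hdim j).mpr h1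
    obtain ⟨v, hv, hn⟩ := total_transform hX x hx hdx f hbl i j hgen.symm (by rw [hgen]; exact hyx) h1
    obtain ⟨h5, h6⟩ := BlowNum.degs k f hover hdim.le x hx hdx hbl hL i hZ.le (isEff_ker hY i h1y) j hC1.le
      (isEff_ker hX j h1) v hv
    exact ⟨C, j, hj, hC, v, hC1, h5, h6, hn⟩

include hdim hover hbl hL in
/-- Every integral curve on the surface has a strict transform. -/
theorem exists_strict (C : Scheme.{u}) (j : C ⟶ X) [IsClosedImmersion j] [IsIntegral C]
    (hC : topologicalKrullDim C = 1) :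
    ∃ (Z : Scheme.{u}) (i : Z ⟶ Y) (_ : IsClosedImmersion i) (_ : IsIntegral Z) (v : ℕ),
      topologicalKrullDim Z = 1 ∧
      Pic13.curveDeg k (i ≫ (Y ↘ Spec (CommRingCat.of k)))
        ((Scheme.Modules.pullback i).obj ((Scheme.Modules.pullback f).obj L)) =
      Pic13.curveDeg k (j ≫ (X ↘ Spec (CommRingCat.of k))) ((Scheme.Modules.pullback j).obj L) ∧
      Pic13.curveDeg k (i ≫ (Y ↘ Spec (CommRingCat.of k)))
        ((Scheme.Modules.pullback i).obj (ClSub.idealMod ((pt x hx).comap f))) = - (v : ℤ) ∧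
      ∀ n : ℕ, stalkIdeal j.ker x ≤ IsLocalRing.maximalIdeal (X.presheaf.stalk x) ^ n ↔ n ≤ v := by
  have hX : IsSurf X := isSurf k hdim
  have hregx := hX.regular x
  have hdx := ringKrullDim_stalk_closed k hdim x hx
  obtain ⟨hYi, hY, hbir, hiso, hz2⟩ := Dix.HasBlow.isSurf_blowUp hX x hx hdx f hbl
  have hdY := Dix.HasBlow.topologicalKrullDim_eq_two hY.dim hz2
  obtain ⟨hpY, -⟩ := BlowNum.facts k f hover hdim.le x hx hdx hbl
  have h1 := (dim_eq_one_iff (X ↘ Spec (CommRingCat.of k)) hdim j).mp hC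
  have hne : j (genericPoint C) ≠ x := by
    intro h
    rw [h, hdx] at h1
    exact one_ne_two h1.symm
  obtain ⟨y, hy⟩ := Models.H69.Contr.exists_apply_eq hbl (j (genericPoint C)) hne
  obtain ⟨Z, i, hi, hZi, hgen, -⟩ := CycA.ClosurePt.exists_closure_subscheme y
  subst hgen
  have hisoy : IsIso (f.stalkMap (i (genericPoint Z))) := hiso _ (by rw [hy]; exact hne)
  have h1y : ringKrullDim (Y.presheaf.stalk (i (genericPoint Z))) = 1 := by
    rw [← h1, ← hy]
    exact (ringKrullDim_eq_of_ringEquiv (asIso (f.stalkMap (i (genericPoint Z)))).commRingCatIsoToRingEquiv).symm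
  have hZ1 := (dim_eq_one_iff (Y ↘ Spec (CommRingCat.of k)) hdY i).mpr h1y
  obtain ⟨v, hv, hn⟩ := total_transform hX x hx hdx f hbl i j hy hne h1
  obtain ⟨h5, h6⟩ := BlowNum.degs k f hover hdim.le x hx hdx hbl hL i hZ1.le (isEff_ker hY i h1y) j hC.le
    (isEff_ker hX j h1) v hv
  exact ⟨Z, i, hi, hZi, v, hZ1, h5, h6, hn⟩

end main

end K924.SeshNef
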