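import Groth.Agent.Surf.K455.RelDim
import Groth.Agent.Dual.H339.OmegaRank
import Groth.Agent.AbSch.K451.DetMat
import Groth.Agent.Flat2C.BlowProper

/-!
# Irreducible smooth proper surfaces: basic facts

* `isIntegral_of_smooth` : a smooth proper irreducible scheme over a field is integral.
* `isInvertible_canonical` : the canonical sheaf of a smooth proper irreducible surface is invertible.
* `isProper_of_isBlowUp` : blow-ups of locally Noetherian schemes are proper.
-/

set_option autoImplicit false
universe u

open CategoryTheory CategoryTheory.Limits AlgebraicGeometry Opposite TopologicalSpace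

namespace K924.SurfFacts

open Groth.Agent

theorem isNoetherian_of_proper (k : Type u) [Field k] {X : Scheme.{u}} (f : X ⟶ Spec (CommRingCat.of k))
    [IsProper f] : IsNoetherian X := by
  have h1 : IsLocallyNoetherian X := LocallyOfFiniteType.isLocallyNoetherian f
  have h2 : CompactSpace X := QuasiCompact.compactSpace_of_compactSpace f
  exact {}

theorem isIntegral_of_smooth (k : Type u) [Field k] {X : Scheme.{u}} (f : X ⟶ Spec (CommRingCat.of k))
    [IsProper f] [Smooth f] [IrreducibleSpace X] : IsIntegral X := by
  have := isNoetherian_of_proper k f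
  exact K455.RelDim.isIntegral_of_regular (Lefpen.H705.ClosedPoint.isRegularLocalRing_stalk f)

theorem smoothOfRelativeDimension (k : Type u) [Field k] {X : Scheme.{u}} (f : X ⟶ Spec (CommRingCat.of k))
    [IsProper f] [Smooth f] [IrreducibleSpace X] (n : ℕ) (hdim : topologicalKrullDim X = n) :
    SmoothOfRelativeDimension n f := by
  have := isIntegral_of_smooth k f
  exact Picfga.CurveRelDim.smoothOfRelativeDimension_of_topologicalKrullDim_eq k X f n hdim

theorem isInvertible_canonical (k : Type u) [Field k] {X : Scheme.{u}} (f : X ⟶ Spec (CommRingCat.of k))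
    [IsProper f] [Smooth f] [IrreducibleSpace X] (n : ℕ) (hdim : topologicalKrullDim X = n) {ω : X.Modules}
    (hω : ExtPow.IsExtPow n (Omega.sheaf f) ω) : PicF.IsInvertible ω := by
  have := smoothOfRelativeDimension k f n hdim
  exact K451.DetMat.isInvertible_of_isExtPow (Dual.H339.OmegaRank.isFinLocFreeOfRank_omega n f) hω

theorem isProper_of_isBlowUp {X Y : Scheme.{u}} [IsLocallyNoetherian X] {I : X.IdealSheafData} {f : Y ⟶ X}
    (hf : BlowUp.IsBlowUp f I) : IsProper f :=
  Flat2C.BlowProper.isProper_of_isBlowUp hf fun U => by
    have := IsLocallyNoetherian.component_noetherian U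
    exact IsNoetherian.noetherian _

end K924.SurfFacts
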