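import Groth.Agent.LocPos.K924.CurveIdeal
import Groth.Agent.LocPos.K924.IdealTens
import Groth.Agent.Models.H69.Contr
import Groth.Agent.Dix.InterSurf

/-!
# Total transforms of curves under the blow-up of a point

`total_transform` : for the blow-up `f : Y ⟶ X` of a closed point `x` of a regular surface, an integral curve `C ⊆ X`
and its strict transform `Z ⊆ Y`, `I_C · O_Y = I_Z · (m_x · O_Y) ^ v` with `v` the multiplicity of `C` at `x`.
-/

set_option autoImplicit false
universe u

open CategoryTheory CategoryTheory.Limits AlgebraicGeometry TopologicalSpace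

namespace K924.TotalTr

open Groth.Agent Groth.Agent.Divis.CartierBasic Groth.Agent.Divis.CartierStalk
open Groth.Agent.Dix.ExcPts Groth.Agent.Dix.PointIdeal K924.CurveIdeal

variable {X Y Z C : Scheme.{u}}

theorem isIntegral_ker (i : Z ⟶ Y) [IsClosedImmersion i] [IsIntegral Z] : IsIntegral i.ker.subscheme := by
  have : IsIntegral i.image := IsIntegral.of_isIso i.toImage
  exact this

theorem range_eq_closure (i : Z ⟶ Y) [IsClosedImmersion i] [IsIntegral Z] :
    Set.range i = closure {i (genericPoint Z)} := by
  have h3 : closure {genericPoint Z} = (Set.univ : Set Z) := genericPoint_spec _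
  have h4 := i.isClosedEmbedding.isClosedMap.closure_image_eq_of_continuous i.continuous {genericPoint Z}
  rw [Set.image_singleton, h3, Set.image_univ] at h4
  exact h4.symm

theorem mem_support_ker_iff_specializes (i : Z ⟶ Y) [IsClosedImmersion i] [IsIntegral Z] (w : Y) :
    w ∈ i.ker.support ↔ i (genericPoint Z) ⤳ w := by
  rw [Dix.VertGeom.mem_support_ker_iff, range_eq_closure, specializes_iff_mem_closure]

/-- A bijective local homomorphism maps the maximal ideal onto the maximal ideal. -/
theorem map_maximalIdeal {A B : Type*} [CommRing A] [CommRing B] [IsLocalRing A] [IsLocalRing B] (φ : A →+* B)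
    [IsLocalHom φ] (h : Function.Bijective φ) :
    (IsLocalRing.maximalIdeal A).map φ = IsLocalRing.maximalIdeal B := by
  have h1 := IsLocalRing.maximalIdeal_comap φ
  rw [← h1]
  exact Ideal.map_comap_of_surjective φ h.2 _

/-- Specializations off the centre lift to the blow-up. -/
theorem specializes_of_apply (x : X) (hx : IsClosed ({x} : Set X)) (f : Y ⟶ X)
    (hb : BlowUp.IsBlowUp f (pt x hx)) {y w : Y} (hy : f y ≠ x) (hw : f w ≠ x) (h : f y ⤳ f w) : y ⤳ w := by
  have hiso := Models.H69.Contr.isIso_compl x hx hb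
  set U := Models.H69.Contr.compl x hx
  have h1 : (f ∣_ U) ⟨y, hy⟩ ⤳ (f ∣_ U) ⟨w, hw⟩ := by
    rw [← U.ι.isOpenEmbedding.isInducing.specializes_iff, ← Scheme.Hom.comp_apply, ← Scheme.Hom.comp_apply,
      morphismRestrict_ι, Scheme.Hom.comp_apply, Scheme.Hom.comp_apply]
    exact h
  have h2 := ((f ∣_ U).homeomorph.isInducing.specializes_iff).mp h1
  exact h2.map (f ⁻¹ᵁ U).ι.continuous

theorem isField_generic (X : Scheme.{u}) [IsIntegral X] : IsField (X.presheaf.stalk (genericPoint X)) := by
  let F : Field (X.presheaf.stalk (genericPoint X)) := inferInstanceAs (Field X.functionField)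
  exact Field.toIsField _

theorem maximalIdeal_ne_bot {R : Type*} [CommRing R] [IsLocalRing R] [IsDomain R] (h : ringKrullDim R = 1) :
    IsLocalRing.maximalIdeal R ≠ ⊥ := by
  intro h0
  have hf : IsField R := IsLocalRing.isField_iff_maximalIdeal_eq.mpr h0
  rw [ringKrullDim_eq_zero_of_isField hf] at h
  exact absurd h (by simp)

/-- A point of codimension one where the maximal ideal is principal. -/
theorem ringKrullDim_le_one_of_eff [IsLocallyNoetherian Y] {E : Y.IdealSheafData}
    (hE : BlowUp.IsEffCartierIdeal E) (w : Y)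
    (h : stalkIdeal E w = IsLocalRing.maximalIdeal (Y.presheaf.stalk w)) :
    ringKrullDim (Y.presheaf.stalk w) ≤ 1 := by
  obtain ⟨U, hwU, d, -, hd⟩ := hE w
  have h1 : IsLocalRing.maximalIdeal (Y.presheaf.stalk w) = Ideal.span {Y.presheaf.germ U.1 w hwU d} := by
    rw [← h, stalkIdeal_eq E U hwU, hd, Ideal.map_span, Set.image_singleton]
  have h2 : (IsLocalRing.maximalIdeal (Y.presheaf.stalk w)).IsPrincipal := ⟨⟨_, h1⟩⟩
  have h3 := Ideal.height_le_one_of_isPrincipal_of_mem_minimalPrimes (IsLocalRing.maximalIdeal (Y.presheaf.stalk w))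
    (IsLocalRing.maximalIdeal (Y.presheaf.stalk w)) (by
      rw [Ideal.minimalPrimes_eq_subsingleton_self]
      rfl)
  rw [← IsLocalRing.maximalIdeal_height_eq_ringKrullDim]
  exact_mod_cast h3

/-- **The total transform of an integral curve.** -/
theorem total_transform [IsIntegral X] (hX : IsSurf X) (x : X) (hx : IsClosed ({x} : Set X))
    (hdx : ringKrullDim (X.presheaf.stalk x) = 2) (f : Y ⟶ X) (hb : BlowUp.IsBlowUp f (pt x hx))
    (i : Z ⟶ Y) [IsClosedImmersion i] [IsIntegral Z] (j : C ⟶ X) [IsClosedImmersion j] [IsIntegral C]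
    (hgen : f (i (genericPoint Z)) = j (genericPoint C)) (hne : j (genericPoint C) ≠ x)
    (h1 : ringKrullDim (X.presheaf.stalk (j (genericPoint C))) = 1) :
    ∃ v : ℕ, j.ker.comap f = i.ker * ((pt x hx).comap f) ^ v ∧
      ∀ n : ℕ, stalkIdeal j.ker x ≤ IsLocalRing.maximalIdeal (X.presheaf.stalk x) ^ n ↔ n ≤ v := by
  have hXn := hX.noeth
  have hregx := hX.regular x
  obtain ⟨hYi, hY, hbir, hiso, -⟩ := Dix.HasBlow.isSurf_blowUp hX x hx hdx f hb
  have hYn := hY.noeth
  have hdomY : ∀ w : Y, IsDomain (Y.presheaf.stalk w) := fun w => inferInstance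
  have hyx : f (i (genericPoint Z)) ≠ x := by rw [hgen]; exact hne
  have hisoy : IsIso (f.stalkMap (i (genericPoint Z))) := hiso _ hyx
  have h1y : ringKrullDim (Y.presheaf.stalk (i (genericPoint Z))) = 1 := by
    rw [← h1, ← hgen]
    exact (ringKrullDim_eq_of_ringEquiv (asIso (f.stalkMap (i (genericPoint Z)))).commRingCatIsoToRingEquiv).symm
  have hK : BlowUp.IsEffCartierIdeal i.ker := isEff_ker hY i h1y
  have hJ : BlowUp.IsEffCartierIdeal j.ker := isEff_ker hX j h1
  have hgX : genericPoint X ∉ j.ker.support := by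
    rw [mem_support_ker_iff_specializes]
    intro h
    have h2 := ((genericPoint_specializes (j (genericPoint C))).antisymm h).eq
    rw [← h2] at h1
    have h3 : IsField (X.presheaf.stalk (genericPoint X)) := isField_generic X
    rw [ringKrullDim_eq_zero_of_isField h3] at h1
    exact absurd h1 (by simp)
  have hD : BlowUp.IsEffCartierIdeal (j.ker.comap f) :=
    Dix.InterSurf.isEff_comap_of_generic f hJ (by rw [hbir.gen]; exact hgX)
  obtain ⟨e, he, hek, -⟩ := Dix.ExcCurve.exists_curve f x hx hdx hb
  let _ : Field (X.presheaf.stalk x ⧸ IsLocalRing.maximalIdeal (X.presheaf.stalk x)) :=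
    Ideal.Quotient.field _
  have hPi : IsIntegral (CohB1.ProjSpace 1 (X.presheaf.stalk x ⧸
      IsLocalRing.maximalIdeal (X.presheaf.stalk x))) := inferInstance
  set E := (pt x hx).comap f with hEdef
  have hE : BlowUp.IsEffCartierIdeal E := hb.1
  have hEsupp : ∀ w : Y, w ∈ E.support ↔ f w = x := by
    intro w
    rw [hEdef, Scheme.IdealSheafData.support_comap]
    exact mem_support_pt x hx (f w)
  have hEtop : ∀ w : Y, f w ≠ x → stalkIdeal E w = ⊤ := fun w hw =>
    (notMem_support_iff_stalkIdeal_eq_top _ _).mp (fun h => hw ((hEsupp w).mp h))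
  -- the factorization
  have hsub : ((j.ker.comap f).support : Set Y) ⊆
      ⋃ a : Fin 2, (((![i.ker, E] : Fin 2 → Y.IdealSheafData) a).support : Set Y) := by
    intro w hw
    rw [Set.mem_iUnion]
    have hw1 : f w ∈ j.ker.support := by
      rw [SetLike.mem_coe, Scheme.IdealSheafData.support_comap] at hw
      exact hw
    by_cases hwx : f w = x
    · exact ⟨1, (hEsupp w).mpr hwx⟩
    · refine ⟨0, ?_⟩
      change w ∈ i.ker.support
      rw [mem_support_ker_iff_specializes] at hw1 ⊢
      rw [← hgen] at hw1
      exact specializes_of_apply x hx f hb hyx hwx hw1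
  obtain ⟨a, ha⟩ := Groth.Agent.S1659.result Y (j.ker.comap f) hD 2 ![i.ker, E]
    (by intro b; fin_cases b; exacts [hK, hE])
    (by
      intro b
      fin_cases b
      · exact isIntegral_ker i
      · change IsIntegral E.subscheme
        rw [← hek]
        exact isIntegral_ker e) hsub
  rw [Fin.prod_univ_two] at ha
  change j.ker.comap f = i.ker ^ a 0 * E ^ a 1 at ha
  -- the first exponent
  have hJz : ∀ z : X, z = j (genericPoint C) → stalkIdeal j.ker z = IsLocalRing.maximalIdeal (X.presheaf.stalk z) := by
    rintro z rfl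
    exact stalkIdeal_ker_generic j
  have ha0 : a 0 = 1 := by
    have h2 := stalkIdeal_comap j.ker f (i (genericPoint Z))
    rw [ha, hJz _ hgen, map_maximalIdeal _ (ConcreteCategory.bijective_of_isIso (f.stalkMap (i (genericPoint Z)))),
      stalkIdeal_mul, stalkIdeal_pow, stalkIdeal_pow, stalkIdeal_ker_generic, hEtop _ hyx, Ideal.top_pow,
      Ideal.mul_top] at h2
    have hm := maximalIdeal_ne_bot h1y
    apply le_antisymm
    · refine le_of_pow_le hm (v := 1) (n := a 0) ?_
      rw [h2, pow_one]
    · refine le_of_pow_le hm (v := a 0) (n := 1) ?_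
      rw [h2, pow_one]
  rw [ha0, pow_one] at ha
  refine ⟨a 1, ha, fun n => ⟨fun h => ?_, fun h => ?_⟩⟩
  · -- compare at the generic point of the exceptional curve
    have hle : j.ker.comap f ≤ E ^ n := by
      rw [le_iff_stalkIdeal]
      intro w
      rw [stalkIdeal_pow]
      by_cases hwx : f w = x
      · rw [stalkIdeal_comap, hEdef, stalkIdeal_comap, ← Ideal.map_pow]
        apply Ideal.map_mono
        have key : ∀ z : X, z = x → stalkIdeal j.ker z ≤ stalkIdeal (pt x hx) z ^ n := by
          rintro z rfl
          rw [stalkIdeal_pt]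
          exact h
        exact key _ hwx
      · rw [hEtop w hwx, Ideal.top_pow]
        exact le_top
    set w := e (genericPoint _) with hw
    have hwE : stalkIdeal E w = IsLocalRing.maximalIdeal (Y.presheaf.stalk w) := by
      rw [← hek]
      exact stalkIdeal_ker_generic e
    have hwx : f w = x := by
      rw [← hEsupp, mem_support_iff_stalkIdeal_ne_top, hwE]
      exact Ideal.IsPrime.ne_top'
    have hw1 := ringKrullDim_le_one_of_eff hE w hwE
    have hwK : stalkIdeal i.ker w = ⊤ := by
      rw [← notMem_support_iff_stalkIdeal_eq_top, mem_support_ker_iff_specializes]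
      intro hsp
      have hne1 : w ≠ i (genericPoint Z) := by
        intro h'
        exact hyx (h' ▸ hwx)
      have hne2 : i (genericPoint Z) ≠ genericPoint Y := by
        intro h'
        rw [h'] at h1y
        have h3 : IsField (Y.presheaf.stalk (genericPoint Y)) := isField_generic Y
        rw [ringKrullDim_eq_zero_of_isField h3] at h1y
        exact absurd h1y (by simp)
      have h3 := Dix.BlowIrr.coheight_two (genericPoint_specializes (i (genericPoint Z))) hsp hne2 hne1
      rw [AlgebraicGeometry.ringKrullDim_stalk_eq_coheight] at hw1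
      have h4 : Order.coheight w ≤ 1 := by exact_mod_cast hw1
      have h5 := h3.trans h4
      exact absurd h5 (by decide)
    have hm : IsLocalRing.maximalIdeal (Y.presheaf.stalk w) ≠ ⊥ := by
      intro h0
      obtain ⟨U, d, hwU, hd⟩ := Dix.IdealModCartier.exists_genOn hE w
      have hd1 := hd U le_rfl
      rw [Fdesc.LocGen.ores_refl] at hd1
      have h3 := IdealTens.germ_mem_nonZeroDivisors U.2 hwU hd1.1
      have h4 : Y.presheaf.germ U.1 w hwU d ∈ stalkIdeal E w := by
        rw [stalkIdeal_eq E U hwU, hd1.2]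
        exact Ideal.mem_map_of_mem _ (Ideal.mem_span_singleton_self _)
      rw [hwE, h0, Ideal.mem_bot] at h4
      exact nonZeroDivisors.ne_zero h3 h4
    refine le_of_pow_le hm ?_
    have h6 := stalkIdeal_mono hle w
    rw [ha, stalkIdeal_mul, stalkIdeal_pow, stalkIdeal_pow, hwK, hwE, Ideal.top_mul] at h6
    exact h6
  · refine stalk_le_of_comap_le x hx hdx f hb j.ker hJ n ?_
    rw [ha]
    intro V
    rw [Scheme.IdealSheafData.ideal_mul, Pi.mul_apply, Scheme.IdealSheafData.ideal_pow,
      Scheme.IdealSheafData.ideal_pow, Pi.pow_apply, Pi.pow_apply]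
    exact Ideal.mul_le_right.trans (Ideal.pow_le_pow_right h)

end K924.TotalTr
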